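import Cfsg.Agent.Lib.PSpFourSpectrum.Inner
import Cfsg.Agent.Lib.PSpFourSpectrum.Common

/-!
For `q` an odd power of three: the extension of `2 × L₂(q)` by the tensor product of the natural
module and its twist by cubing has as element orders the divisors of `6`, `9`, `q - 1`, `(q + 1)/2`.
-/

set_option autoImplicit false

namespace Cfsg.Agent.Lib.ReeCube

open Matrix
open Cfsg.Agent.Lib.PSpFourSpectrum

/-- The bounds for the element orders of the small factor. -/
def CubeBound (m b : ℕ) : Prop :=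
  b = 6 ∨ b = 9 ∨ b = 3 ^ (2 * m + 1) - 1 ∨ b = (3 ^ (2 * m + 1) + 1) / 2

theorem sgnCard_three : sgnCard 3 = 2 := if_neg (by norm_num)

theorem q_mod_eight (m : ℕ) : 3 ^ (2 * m + 1) % 8 = 3 := by
  rw [pow_succ, pow_mul, Nat.mul_mod, Nat.pow_mod]; norm_num

variable (K : Type*) [Field K] [CharP K 3] [Fact (Nat.Prime 3)]

/-- The representation on the tensor product. -/
noncomputable def cubeRep : Matrix (Fin 2) (Fin 2) K →* Matrix PairIdx PairIdx K := pairRep K 3 1

/-- The image of `SL₂` together with `-1`. -/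
noncomputable def signGroup : Subgroup (GL PairIdx K) where
  carrier := {h | ∃ g, h = repSL (cubeRep K) g ∨ h = -repSL (cubeRep K) g}
  one_mem' := ⟨1, Or.inl (map_one _).symm⟩
  mul_mem' := by
    rintro a b ⟨g, rfl | rfl⟩ ⟨g', rfl | rfl⟩
    · exact ⟨g * g', Or.inl (map_mul _ _ _).symm⟩
    · exact ⟨g * g', Or.inr (by rw [map_mul, mul_neg])⟩
    · exact ⟨g * g', Or.inr (by rw [map_mul, neg_mul])⟩
    · exact ⟨g * g', Or.inl (by rw [map_mul, neg_mul_neg])⟩
  inv_mem' := by
    rintro a ⟨g, rfl | rfl⟩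
    · exact ⟨g⁻¹, Or.inl (map_inv _ _).symm⟩
    · exact ⟨g⁻¹, Or.inr (by rw [map_inv, inv_neg])⟩

theorem repSL_mem (g : Matrix.SpecialLinearGroup (Fin 2) K) : repSL (cubeRep K) g ∈ signGroup K :=
  ⟨g, Or.inl rfl⟩

variable {K}

theorem cube_kernel {g : Matrix (Fin 2) (Fin 2) K} (hdet : g.det = 1) (h : cubeRep K g = 1) :
    g = 1 ∨ g = -1 := pairRep_kernel hdet h

/-- The element orders of the small factor divide the bounds. -/
theorem factor_bound [Fintype K] {m : ℕ} (hK : Fintype.card K = 3 ^ (2 * m + 1))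
    (x : VecExt (signGroup K)) : ∃ b, CubeBound m b ∧ orderOf x ∣ b := by
  classical
  obtain ⟨g, hg⟩ := x.right.2
  set h := ((x.right : GL PairIdx K) : Matrix PairIdx PairIdx K) with hh
  obtain ⟨e, he, hx⟩ : ∃ e : K, (e = 1 ∨ e = -1) ∧ h = e • cubeRep K g.1 := by
    rcases hg with hg | hg
    · exact ⟨1, Or.inl rfl, by rw [hh, hg, repSL_val, one_smul]⟩
    · exact ⟨-1, Or.inr rfl, by rw [hh, hg, Units.val_neg, repSL_val, neg_one_smul]⟩
  have hesq : e * e = 1 := by rcases he with rfl | rfl <;> ring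
  have hhsq : h ^ 2 = cubeRep K g.1 ^ 2 := by rw [hx, smul_pow, sq e, hesq, one_smul]
  have hneg : cubeRep K (-1) = 1 := pairRep_neg_one
  obtain ⟨a, ha, htr, hdet, hy⟩ := exists_closure_data hK g.1 g.2
  rcases unipotent_or_split (n := 2 * m + 1) (k := 2 * m + 1) (by omega) hneg hK g.2 ha htr hy (Or.inl rfl) with
    ⟨u, hu, hug⟩ | ⟨h2, N, hN, hNg⟩
  · have hu3 : (cubeRep K u - 1) ^ 3 = 0 := pairRep_unipotent hu
    have hpow : cubeRep K u ^ 3 = 1 := by rw [← map_pow, pow_char_of_sub_sq hu, map_one]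
    rcases he with rfl | rfl
    · refine ⟨9, Or.inr (Or.inl rfl), orderOf_dvd_of_pow_eq_one (pow_mul_char_eq_one (n := 3) 3 ?_)⟩
      rw [← hh, hx, one_smul, ← hug, hpow]
    · refine ⟨6, Or.inl rfl, orderOf_dvd_of_pow_eq_one (pow_eq_one_of_sum (n := 6) ?_ ?_)⟩
      · rw [← hh, hx, smul_pow, ← hug, show (6 : ℕ) = 3 * 2 by norm_num, pow_mul (cubeRep K u), hpow, one_pow,
          pow_mul, show ((-1 : K) ^ 3) ^ 2 = 1 by ring, one_smul]
      · rw [← hh, hx, ← hug, neg_one_smul]
        set U := cubeRep K u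
        have h3 : (3 : Matrix PairIdx PairIdx K) = 0 := by
          have e3 : ((3 : ℕ) : K) = 0 := CharP.cast_eq_zero K 3
          rw [← map_ofNat (algebraMap K (Matrix PairIdx PairIdx K)) 3,
            show (3 : K) = 0 by exact_mod_cast e3, map_zero]
        have e0 : ∑ i ∈ Finset.range 6, (-U) ^ i = -((U - 1) ^ 2 * (U - 1) * (U + 1) ^ 2)
            + 3 * (0 - (U ^ 3 - U ^ 2)) + 0 := by
          simp only [Finset.sum_range_succ, Finset.sum_range_zero]
          noncomm_ring
        rw [e0, ← pow_succ, hu3, h3]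
        simp
  have hne := (sq_ne_one_iff_ne_inv ha).1 h2
  have hq := q_mod_eight m
  rw [sgnCard_three] at hN
  obtain ⟨b, hb, hb2, hbN⟩ : ∃ b, CubeBound m b ∧ 2 ∣ b ∧ N ∣ b := by
    rcases hN with rfl | rfl
    · exact ⟨3 ^ (2 * m + 1) - 1, Or.inr (Or.inr (Or.inl rfl)), by omega,
        Nat.div_dvd_of_dvd (by omega)⟩
    · exact ⟨(3 ^ (2 * m + 1) + 1) / 2, Or.inr (Or.inr (Or.inr rfl)), by omega, dvd_rfl⟩
  have hhb : h ^ b = 1 := by
    obtain ⟨j, rfl⟩ := hb2
    rw [pow_mul, hhsq, ← pow_mul]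
    obtain ⟨i, hi⟩ := hbN
    rw [hi, pow_mul, hNg, one_pow]
  rcases pow_eq_one_or_fixed (x := x) (n := b) hhb with h1 | ⟨v, hv, hfix⟩
  · exact ⟨b, hb, orderOf_dvd_of_pow_eq_one h1⟩
  rw [← hh] at hfix
  set f := algebraMap K (AlgebraicClosure K) with hf
  have hfix2 : cubeRep K g.1 ^ 2 *ᵥ v = v := by
    rw [← hhsq, sq, ← mulVec_mulVec, hfix, hfix]
  have hv' : (f ∘ v) ≠ 0 := fun h => hv (funext fun i => f.injective (by simpa using congrFun h i))
  have hfix' : pairRep (AlgebraicClosure K) 3 1 ((g.1 ^ 2).map f) *ᵥ (f ∘ v) = f ∘ v := by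
    rw [← pairRep_map]
    funext i
    have e2 := RingHom.map_mulVec f (cubeRep K (g.1 ^ 2)) v i
    rw [map_pow, hfix2, ← map_pow] at e2
    exact e2.symm
  have htr2 : ((g.1 ^ 2).map f).trace = a ^ 2 + (a ^ 2)⁻¹ := by
    have hd := cayley_two _ hdet
    rw [htr, sub_add_eq_add_sub, sub_eq_zero] at hd
    have h' : (g.1 ^ 2).map f = (g.1.map f) * (g.1.map f) := by
      rw [sq]; exact Matrix.map_mul
    rw [h', eq_sub_of_add_eq hd, Matrix.trace_sub, Matrix.trace_smul, Matrix.trace_one, hf, htr, smul_eq_mul]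
    field_simp
    simp
    ring
  have hdet2 : ((g.1 ^ 2).map f).det = 1 := by
    have e2 := f.map_det (g.1 ^ 2)
    rw [Matrix.det_pow, g.2, one_pow, map_one] at e2
    exact e2.symm
  by_cases h4 : a ^ 4 = 1
  · refine ⟨6, Or.inl rfl, orderOf_dvd_of_pow_eq_one (pow_mul_char_eq_one (n := 2) 3 ?_)⟩
    have ha2 : a ^ 2 = -1 := by
      have hz : (a ^ 2 - 1) * (a ^ 2 + 1) = 0 := by linear_combination h4
      rcases mul_eq_zero.1 hz with hz | hz
      · exact absurd (sub_eq_zero.1 hz) h2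
      · exact eq_neg_of_add_eq_zero_left hz
    have hc : (-1 : AlgebraicClosure K) ^ sgnCard 3 = 1 := by rw [sgnCard_three]; ring
    rw [← hh, hhsq]
    exact rep_pow_eq_one hneg (descend hc (pow_eq_of_dvd (aeval_pairPoly _ hdet ha htr)
      (pair_dvd hne ha2 (inv_pow_eq_of_sgn hc ha2))))
  exfalso
  have ha2 : (a ^ 2) ≠ (a ^ 2)⁻¹ := by
    rw [← sq_ne_one_iff_ne_inv (pow_ne_zero _ ha), ← pow_mul]
    exact h4
  obtain ⟨r, hr⟩ := weight_of_fixed (pairRep (AlgebraicClosure K) 3 1) _ pairRep_diagonal _ hdet2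
    (pow_ne_zero _ ha) htr2 ha2 hv' hfix'
  have h8 : a ^ 8 = 1 := by
    obtain ⟨i, j⟩ := r
    fin_cases i <;> fin_cases j <;>
      simp only [Fin.zero_eta, Fin.mk_one, Fin.isValue, cons_val_zero, cons_val_one, pow_one, inv_pow] at hr
    · rw [← pow_mul, ← pow_add] at hr; exact hr
    · exfalso
      rw [mul_inv_eq_one₀ (pow_ne_zero _ (pow_ne_zero _ ha))] at hr
      exact h4 (by
        refine mul_left_cancel₀ (pow_ne_zero 2 ha) ?_
        rw [← pow_add, mul_one]
        rw [← pow_mul] at hr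
        exact hr.symm)
    · exfalso
      rw [inv_mul_eq_one₀ (pow_ne_zero _ ha)] at hr
      exact h4 (by
        refine mul_left_cancel₀ (pow_ne_zero 2 ha) ?_
        rw [← pow_add, mul_one]
        rw [← pow_mul] at hr
        exact hr.symm)
    · rw [← mul_inv, inv_eq_one, ← pow_mul, ← pow_add] at hr; exact hr
  rcases root_orders ha hy with h1 | h1
  · have hg8 : Nat.gcd 8 (3 ^ (2 * m + 1) - 1) ∣ 4 := by
      rw [Nat.gcd_rec, show (3 ^ (2 * m + 1) - 1) % 8 = 2 by omega]
      decide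
    exact h4 (orderOf_dvd_iff_pow_eq_one.1 ((Nat.dvd_gcd (orderOf_dvd_of_pow_eq_one h8)
      (orderOf_dvd_of_pow_eq_one h1)).trans hg8))
  · have hg8 : Nat.gcd 8 (3 ^ (2 * m + 1) + 1) ∣ 4 := by
      rw [Nat.gcd_rec, show (3 ^ (2 * m + 1) + 1) % 8 = 4 by omega]
      decide
    exact h4 (orderOf_dvd_iff_pow_eq_one.1 ((Nat.dvd_gcd (orderOf_dvd_of_pow_eq_one h8)
      (orderOf_dvd_of_pow_eq_one h1)).trans hg8))

theorem half_dvd_of_rep {g : Matrix.SpecialLinearGroup (Fin 2) K} {k : ℕ}
    (h : repSL (cubeRep K) g ^ k = 1) : orderOf g ∣ 2 * k := by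
  have e := pow_sgn_of_kernel (p := 3) (fun g hg h => cube_kernel hg h) h
  rw [sgnCard_three] at e
  exact orderOf_dvd_of_pow_eq_one e

/-- Every bound is attained. -/
theorem factor_exists [Fintype K] {m : ℕ} (hK : Fintype.card K = 3 ^ (2 * m + 1)) {b : ℕ}
    (hb : CubeBound m b) : ∃ x : VecExt (signGroup K), b ∣ orderOf x := by
  classical
  have hq := q_mod_eight m
  rcases hb with rfl | rfl | rfl | rfl
  · let w : Matrix.SpecialLinearGroup (Fin 2) K := ⟨!![0, 1; -1, 0], by simp [det_fin_two_of]⟩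
    have hw : repSL (cubeRep K) w ^ 2 = 1 := by
      apply Units.ext
      rw [Units.val_pow_eq_pow_val, repSL_val, Units.val_one]
      refine rep_pow_eq_one pairRep_neg_one (Or.inr ?_)
      ext i j
      fin_cases i <;> fin_cases j <;> simp [w, sq, Matrix.mul_apply, Fin.sum_univ_two]
    have hne : repSL (cubeRep K) w ≠ 1 := by
      intro h
      rcases cube_kernel w.2 (congrArg Units.val h) with e | e
      · simpa [w] using congrFun (congrFun e 0) 1
      · simpa [w] using congrFun (congrFun e 0) 1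
    have hord : orderOf (⟨_, repSL_mem K w⟩ : signGroup K) = 2 := by
      rw [← Subgroup.orderOf_coe]; exact orderOf_eq_prime hw hne
    obtain ⟨x, hx⟩ := exists_orderOf_mul 3 (⟨_, repSL_mem K w⟩ : signGroup K)
      (v := fun r => if r = (0, 0) ∨ r = (1, 1) then 1 else 0)
      (fun h => by have := congrFun h (0, 0); simp at this) (by
        funext r
        obtain ⟨r1, r2⟩ := r
        simp only [repSL_val, Matrix.mulVec, dotProduct, Fintype.sum_prod_type, Fin.sum_univ_two]
        fin_cases r1 <;> fin_cases r2 <;>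
          simp [cubeRep, pairRep_apply, w] <;> ring)
      (by rw [hord]; norm_num)
    exact ⟨x, by rw [hx, hord]⟩
  · have hne : repSL (cubeRep K) (upperOne K) ≠ 1 := by
      intro h
      rcases cube_kernel (upperOne K).2 (congrArg Units.val h) with e | e
      · simpa [upperOne] using congrFun (congrFun e 0) 1
      · simpa [upperOne] using congrFun (congrFun e 0) 1
    have hu3 : repSL (cubeRep K) (upperOne K) ^ 3 = 1 := by
      apply Units.ext
      rw [Units.val_pow_eq_pow_val, repSL_val, ← map_pow, pow_char_of_sub_sq upperOne_sq_sub, map_one,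
        Units.val_one]
    obtain ⟨x, hx⟩ := exists_orderOf_sq 3 (⟨_, repSL_mem K (upperOne K)⟩ : signGroup K)
      (by rw [← Subgroup.orderOf_coe]; exact orderOf_eq_prime hu3 hne) (by
        intro h
        rw [Finset.sum_range_succ, Finset.sum_range_succ, Finset.sum_range_one, pow_zero, pow_one] at h
        simp only [repSL_val, ← map_pow] at h
        have h' := congrFun (congrFun h (0, 0)) (1, 1)
        simp only [Matrix.add_apply, cubeRep, pairRep_apply, sq, upperOne] at h'
        simp [Matrix.mul_apply, Fin.sum_univ_two] at h'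
        ring_nf at h'
        have h3 : (3 : K) = 0 := by exact_mod_cast CharP.cast_eq_zero K 3
        exact one_ne_zero (α := K) (by linear_combination (-1) * h' + 6 * h3))
    exact ⟨x, by rw [hx]; norm_num⟩
  · obtain ⟨l, hl⟩ := isCyclic_iff_exists_orderOf_eq_natCard.1 (inferInstance : IsCyclic Kˣ)
    rw [Nat.card_units, Nat.card_eq_fintype_card, hK] at hl
    let h : signGroup K := ⟨-repSL (cubeRep K) (diagSL l), diagSL l, Or.inr rfl⟩
    refine ⟨SemidirectProduct.inr h, ?_⟩
    rw [orderOf_injective _ SemidirectProduct.inr_injective, ← Subgroup.orderOf_coe]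
    set k := orderOf (-repSL (cubeRep K) (diagSL l)) with hk
    show _ ∣ k
    have e := pow_orderOf_eq_one (-repSL (cubeRep K) (diagSL l))
    rw [← hk, neg_pow] at e
    obtain ⟨j, hj | hj⟩ := Nat.even_or_odd' k
    · rw [show (-1 : GL PairIdx K) ^ k = 1 by rw [hj, pow_mul, neg_one_sq, one_pow], one_mul] at e
      have h1 := half_dvd_of_rep e
      have hd : orderOf l ∣ orderOf (diagSL l) := by
        refine orderOf_dvd_of_pow_eq_one (Units.ext ?_)
        have e2 := congrArg Subtype.val (pow_orderOf_eq_one (diagSL l))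
        rw [Matrix.SpecialLinearGroup.coe_pow, diagSL_pow] at e2
        have h00 := congrFun (congrFun e2 0) 0
        rw [Units.val_pow_eq_pow_val]
        simpa using h00
      have h2 := hd.trans h1
      rw [hl] at h2
      obtain ⟨t, ht⟩ : 2 ∣ 3 ^ (2 * m + 1) - 1 := by omega
      have hodd : Nat.Coprime t 2 := by
        rw [Nat.coprime_two_right, Nat.odd_iff]; omega
      rw [ht] at h2 ⊢
      have h3 : t ∣ k := Nat.dvd_of_mul_dvd_mul_left (by norm_num) h2
      rw [mul_comm]
      exact hodd.mul_dvd_of_dvd_of_dvd h3 (by rw [hj]; exact dvd_mul_right 2 j)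
    · exfalso
      have he : cubeRep K ((diagSL l).1 ^ k) = -1 := by
        have e' := congrArg Units.val e
        rw [show (-1 : GL PairIdx K) ^ k = -1 by rw [hj, pow_succ, pow_mul, neg_one_sq, one_pow, one_mul],
          neg_one_mul, Units.val_neg, Units.val_one, Units.val_pow_eq_pow_val, repSL_val, ← map_pow,
          neg_eq_iff_eq_neg] at e'
        exact e'
      rw [diagSL_pow, cubeRep, pairRep_diagonal] at he
      have h00 := congrFun (congrFun he (0, 0)) (0, 0)
      have h01 := congrFun (congrFun he (0, 1)) (0, 1)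
      simp at h00 h01
      have hl0 : ((l : K) ^ k) ≠ 0 := pow_ne_zero _ l.ne_zero
      field_simp at h01
      have h2 : ((l : K) ^ k) ^ 4 = 1 := by linear_combination (((l : K) ^ k) ^ 2 - 1) * h01
      have h11 : (2 : K) = 0 := by linear_combination h00 - h2
      have h3 : (3 : K) = 0 := by exact_mod_cast CharP.cast_eq_zero K 3
      exact one_ne_zero (α := K) (by linear_combination h3 - h11)
  · obtain ⟨g, hg⟩ := ElementOrders.exists_normOne_element K
    rw [Nat.card_eq_fintype_card, hK] at hg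
    refine ⟨SemidirectProduct.inr ⟨_, repSL_mem K g⟩, ?_⟩
    rw [orderOf_injective _ SemidirectProduct.inr_injective, ← Subgroup.orderOf_coe]
    have h1 := half_dvd_of_rep (pow_orderOf_eq_one (repSL (cubeRep K) g))
    rw [hg] at h1
    obtain ⟨t, ht⟩ : 2 ∣ 3 ^ (2 * m + 1) + 1 := by omega
    rw [ht] at h1 ⊢
    rw [Nat.mul_div_cancel_left _ (by norm_num)]
    exact Nat.dvd_of_mul_dvd_mul_left (by norm_num) h1

end Cfsg.Agent.Lib.ReeCube
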