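import Cfsg.Agent.Lib.Spectrum62.Basic
import Cfsg.Agent.Lib.ReeCube.Factor

/-!
A group whose element orders are governed by six bounds, four of which are those of the small factor:
its cube has the spectrum of arbitrarily large groups.
-/

set_option autoImplicit false

namespace Cfsg.Agent.Lib.ReeCube

open Matrix
open Cfsg.Agent.Lib.PSpFourSpectrum

theorem exists_exact {A : Type*} [Group A] [Finite A] {d : ℕ} {g : A} (h : d ∣ orderOf g) :
    ∃ y : A, orderOf y = d := ElementOrders.exists_orderOf_eq_of_dvd h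

theorem cube_large {R : Type*} [Group R] [Finite R] {K : Type*} [Field K] [Fintype K] [CharP K 3]
    [Fact (Nat.Prime 3)] {m : ℕ} (hK : Fintype.card K = 3 ^ (2 * m + 1)) (s t : ℕ)
    (hR : ∀ d : ℕ, (∃ g : R, orderOf g = d) ↔ ((∃ b, CubeBound m b ∧ d ∣ b) ∨ d ∣ s ∨ d ∣ t)) (N : ℕ) :
    ∃ (H : Type) (_ : Group H) (_ : Fintype H), N < Fintype.card H ∧
      Set.range (orderOf : H → ℕ) = Set.range (orderOf : R × R × R → ℕ) := by
  classical
  have : Finite (VecExt (signGroup K)) := Finite.of_equiv _ (SemidirectProduct.equivProd (φ := vecAct (signGroup K))).symm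
  -- the same orders in `R` for elements of the small factor
  have hX : ∀ x : VecExt (signGroup K), ∃ c : R, orderOf c = orderOf x := fun x => by
    obtain ⟨b, hb, hx⟩ := factor_bound hK x
    exact (hR _).2 (Or.inl ⟨b, hb, hx⟩)
  -- elements of `R` either move to the small factor or have order dividing `s` or `t`
  have hmove : ∀ c : R, (∃ x : VecExt (signGroup K), orderOf x = orderOf c) ∨ orderOf c ∣ s ∨ orderOf c ∣ t := fun c => by
    rcases (hR _).1 ⟨c, rfl⟩ with ⟨b, hb, hc⟩ | h
    · obtain ⟨x, hx⟩ := factor_exists hK hb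
      exact Or.inl (exists_exact (hc.trans hx))
    · exact Or.inr h
  have hspec : Set.range (orderOf : (R × R × VecExt (signGroup K)) → ℕ) = Set.range (orderOf : R × R × R → ℕ) := by
    ext n
    constructor
    · rintro ⟨⟨a, b, x⟩, rfl⟩
      obtain ⟨c, hc⟩ := hX x
      exact ⟨(a, b, c), by simp only [Prod.orderOf, hc]⟩
    · rintro ⟨⟨a, b, c⟩, rfl⟩
      have key : ∀ u v w : R, (∃ x : VecExt (signGroup K), orderOf x = orderOf w) →
          ∃ g : (R × R × VecExt (signGroup K)), orderOf g = Nat.lcm (orderOf u) (Nat.lcm (orderOf v) (orderOf w)) := by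
        rintro u v w ⟨x, hx⟩
        exact ⟨(u, v, x), by simp only [Prod.orderOf, hx]⟩
      have pair : ∀ u v w : R, ∀ r, (r = s ∨ r = t) → orderOf u ∣ r → orderOf v ∣ r →
          ∃ g : (R × R × VecExt (signGroup K)), orderOf g = Nat.lcm (orderOf u) (Nat.lcm (orderOf v) (orderOf w)) := by
        intro u v w r hr hu hv
        obtain ⟨a', ha'⟩ : ∃ a' : R, orderOf a' = Nat.lcm (orderOf u) (orderOf v) := by
          refine (hR _).2 ?_
          rcases hr with rfl | rfl
          · exact Or.inr (Or.inl (Nat.lcm_dvd hu hv))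
          · exact Or.inr (Or.inr (Nat.lcm_dvd hu hv))
        exact ⟨(a', w, 1), by simp only [Prod.orderOf, ha', orderOf_one, Nat.lcm_one_right, Nat.lcm_assoc]⟩
      simp only [Prod.orderOf]
      rcases hmove c with hc | hc
      · exact key a b c hc
      rcases hmove b with hb | hb
      · obtain ⟨g, hg⟩ := key a c b hb
        exact ⟨g, hg.trans (by rw [Nat.lcm_comm (orderOf c)])⟩
      rcases hmove a with ha | ha
      · obtain ⟨g, hg⟩ := key b c a ha
        exact ⟨g, hg.trans (by rw [← Nat.lcm_assoc, Nat.lcm_comm])⟩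
      have hab : ∀ r, (r = s ∨ r = t) → orderOf a ∣ r → orderOf b ∣ r →
          ∃ g : (R × R × VecExt (signGroup K)), orderOf g = Nat.lcm (orderOf a) (Nat.lcm (orderOf b) (orderOf c)) := pair a b c
      have hac : ∀ r, (r = s ∨ r = t) → orderOf a ∣ r → orderOf c ∣ r →
          ∃ g : (R × R × VecExt (signGroup K)), orderOf g = Nat.lcm (orderOf a) (Nat.lcm (orderOf b) (orderOf c)) := fun r hr h1 h2 => by
        obtain ⟨g, hg⟩ := pair a c b r hr h1 h2
        exact ⟨g, hg.trans (by rw [Nat.lcm_comm (orderOf c)])⟩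
      have hbc : ∀ r, (r = s ∨ r = t) → orderOf b ∣ r → orderOf c ∣ r →
          ∃ g : (R × R × VecExt (signGroup K)), orderOf g = Nat.lcm (orderOf a) (Nat.lcm (orderOf b) (orderOf c)) := fun r hr h1 h2 => by
        obtain ⟨g, hg⟩ := pair b c a r hr h1 h2
        exact ⟨g, hg.trans (by rw [← Nat.lcm_assoc, Nat.lcm_comm])⟩
      rcases ha with ha | ha <;> rcases hb with hb | hb <;> rcases hc with hc | hc
      · exact hab s (Or.inl rfl) ha hb
      · exact hab s (Or.inl rfl) ha hb
      · exact hac s (Or.inl rfl) ha hc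
      · exact hbc t (Or.inr rfl) hb hc
      · exact hbc s (Or.inl rfl) hb hc
      · exact hac t (Or.inr rfl) ha hc
      · exact hab t (Or.inr rfl) ha hb
      · exact hab t (Or.inr rfl) ha hb
  let ι : Multiplicative (PairIdx → K) →* (R × R × VecExt (signGroup K)) :=
    ((1 : _ →* R).prod ((1 : _ →* R).prod (SemidirectProduct.inl (φ := vecAct (signGroup K)))))
  let V : Subgroup (R × R × VecExt (signGroup K)) := ι.range
  have hVn : V.Normal := ⟨by
    rintro _ ⟨v, rfl⟩ ⟨a, b, x⟩
    have hn : ((SemidirectProduct.inl (φ := vecAct (signGroup K))).range).Normal := by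
      rw [SemidirectProduct.range_inl_eq_ker_rightHom]; infer_instance
    obtain ⟨w, hw⟩ := hn.conj_mem _ ⟨v, rfl⟩ x
    exact ⟨w, by
      refine Prod.ext ?_ (Prod.ext ?_ ?_)
      · simp [ι]
      · simp [ι]
      · simpa [ι] using hw⟩⟩
  have hne : V ≠ ⊥ := by
    intro h
    have hmem : ι (Multiplicative.ofAdd (Pi.single (0, 0) (1 : K))) ∈ V := ⟨_, rfl⟩
    rw [h, Subgroup.mem_bot] at hmem
    have h3 : (SemidirectProduct.inl (φ := vecAct (signGroup K)) (Multiplicative.ofAdd (Pi.single (0, 0) (1 : K)))) = 1 :=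
      congrArg (fun g : (R × R × VecExt (signGroup K)) => g.2.2) hmem
    rw [← SemidirectProduct.inl (φ := vecAct (signGroup K)).map_one, SemidirectProduct.inl_injective.eq_iff] at h3
    simp at h3
  have hexp : ∀ x ∈ V, x ^ 3 = 1 := by
    rintro _ ⟨v, rfl⟩
    rw [← map_pow, vec_pow_char, map_one]
  obtain ⟨H, i1, i2, h1, h2⟩ :=
    Spectrum62.exists_large_same_spectrum V hne Nat.prime_three hexp N
  exact ⟨H, i1, i2, h1, h2.trans hspec⟩

end Cfsg.Agent.Lib.ReeCube
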